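import Groth.Agent.PureLib.Basic

/-!
# Fibres of base changes of algebras with geometrically integral fibres
-/

set_option autoImplicit false
set_option linter.style.haveILetI false
set_option maxHeartbeats 1000000
set_option backward.isDefEq.respectTransparency false

universe u

open AlgebraicGeometry CategoryTheory TensorProduct

noncomputable section

namespace Groth.Agent.PureLib

theorem isDomain_tensor_field {A B : Type u} [CommRing A] [CommRing B] [Algebra A B] (h : FlatCA.GeomIntegralFibres A B)
    (K : Type u) [Field K] [Algebra A K] : IsDomain (K ⊗[A] B) := by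
  let j : Spec (CommRingCat.of K) ⟶ Spec (CommRingCat.of A) := Spec.map (CommRingCat.ofHom (algebraMap A K))
  haveI hP : IsIntegral (Limits.pullback (Spec.map (CommRingCat.ofHom (algebraMap A B))) j) :=
    pullback_of_geometrically h.geometrically_isIntegral K j
  let e := pullbackSpecIso A B K
  haveI : Nonempty (Spec (CommRingCat.of (B ⊗[A] K))) :=
    ⟨e.hom (Classical.choice (inferInstanceAs (Nonempty ↥(Limits.pullback (Spec.map (CommRingCat.ofHom (algebraMap A B))) j))))⟩
  haveI : IsIntegral (Spec (CommRingCat.of (B ⊗[A] K))) := isIntegral_of_isOpenImmersion e.inv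
  haveI : IsDomain (B ⊗[A] K) := (affine_isIntegral_iff (CommRingCat.of (B ⊗[A] K))).mp inferInstance
  exact (Algebra.TensorProduct.comm A K B).toRingEquiv.toMulEquiv.isDomain

theorem isDomain_fiber {A B : Type u} [CommRing A] [CommRing B] [Algebra A B] (h : FlatCA.GeomIntegralFibres A B)
    (A' B' : Type u) [CommRing A'] [CommRing B'] [Algebra A A'] [Algebra B B'] [Algebra A' B'] [Algebra A B']
    [IsScalarTower A B B'] [IsScalarTower A A' B'] (hpo : Algebra.IsPushout A B A' B') (t : Ideal A') [t.IsPrime] :
    IsDomain (t.Fiber B') := by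
  haveI := hpo
  haveI : Algebra.IsPushout A A' B B' := hpo.symm
  haveI := isDomain_tensor_field h t.ResidueField
  let e1 : B' ≃ₐ[A'] A' ⊗[A] B := (Algebra.IsPushout.equiv A A' B B').symm
  let e2 : t.Fiber B' ≃ₐ[A'] t.ResidueField ⊗[A] B :=
    (Algebra.TensorProduct.congr (AlgEquiv.refl : t.ResidueField ≃ₐ[A'] t.ResidueField) e1).trans
      ((Algebra.TensorProduct.cancelBaseChange A A' A' t.ResidueField B).restrictScalars A')
  exact e2.toRingEquiv.toMulEquiv.isDomain

end Groth.Agent.PureLib
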