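import Groth.Agent.FibAssLib.Fibre

/-!
# Elementary facts on impurities
-/

set_option autoImplicit false
set_option linter.style.haveILetI false
set_option linter.unusedSectionVars false
set_option maxHeartbeats 1000000
set_option backward.isDefEq.respectTransparency false

universe u

open Groth.Agent.CAlgFib TensorProduct

noncomputable section

namespace Groth.Agent.PureLib

variable {R S : Type u} [CommRing R] [CommRing S] [Algebra R S] (p : Ideal R) [p.IsPrime]
variable (N : Type u) [AddCommGroup N] [Module S N] [Module R N] [IsScalarTower R S N]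

/-- Membership in `pN` away from `p`. -/
def Vanishes (n : N) : Prop := ∃ r ∉ p, algebraMap R S r • n ∈ p.map (algebraMap R S) • (⊤ : Submodule S N)

theorem vanishes_iff (n : N) : Vanishes (S := S) p N n ↔ FlatCA.toFiberMod (S := S) p (N := N) n = 0 :=
  (toFiberMod_eq_zero_iff p N n).symm

variable (q : Ideal S) [q.IsPrime] [q.LiesOver p] [IsNoetherianRing (p.Fiber S)]

/-- An associated point of the fibre is the annihilator of an element modulo `p`. -/
theorem exists_elem_of_ass (h : FlatCA.fiberIdeal p q ∈ associatedPrimes (p.Fiber S) (FlatCA.fiberMod p S N)) :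
    ∃ n : N, ∀ c : S, c ∈ q ↔ Vanishes (S := S) p N (c • n) := by
  obtain ⟨-, hQc⟩ := FibAssLib.fiberIdeal_spec p q
  obtain ⟨y, hy⟩ := (isAssociatedPrime_iff.mp h).2
  obtain ⟨r, hr, m, hm⟩ := exists_factor_mod p N y
  refine ⟨m, fun c => ?_⟩
  rw [vanishes_iff, map_smul, ← hm, smul_comm, smul_eq, smul_eq p N c, (ι_isUnit (S := S) p hr).smul_eq_zero,
    ← Submodule.mem_bot (p.Fiber S), ← Submodule.mem_colon_singleton, ← hy]
  exact ⟨fun hc => by rw [← hQc] at hc; exact hc, fun hc => by rw [← hQc]; exact hc⟩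

/-- Conversely, an element with such an annihilator gives an associated point. -/
theorem mem_ass_of_elem {n : N} (h : ∀ c : S, c ∈ q ↔ Vanishes (S := S) p N (c • n)) :
    FlatCA.fiberIdeal p q ∈ associatedPrimes (p.Fiber S) (FlatCA.fiberMod p S N) := by
  obtain ⟨hQ, hQc⟩ := FibAssLib.fiberIdeal_spec p q
  refine isAssociatedPrime_iff.mpr ⟨hQ, FlatCA.toFiberMod (S := S) p (N := N) n, ?_⟩
  ext t
  obtain ⟨b, hb, s, hs⟩ := exists_factor p t
  have hu := ι_isUnit (S := S) p hb
  rw [Submodule.mem_colon_singleton, Submodule.mem_bot]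
  have e1 : t ∈ FlatCA.fiberIdeal p q ↔ s ∈ q := by
    rw [← Ideal.unit_mul_mem_iff_mem _ hu, hs]
    conv_rhs => rw [← hQc]
    rfl
  rw [e1, h s, vanishes_iff, map_smul, smul_eq, ← hs, mul_smul, hu.smul_eq_zero]

theorem vanishes_zero : Vanishes (S := S) p N (0 : N) :=
  ⟨1, (Ideal.ne_top_iff_one p).mp (Ideal.IsPrime.ne_top ‹_›), by simp⟩

omit [q.IsPrime] [q.LiesOver p] [IsNoetherianRing (p.Fiber S)] in
/-- A finite type algebra stays so after base change. -/
theorem finiteType_pushout (A B A' B' : Type u) [CommRing A] [CommRing B] [CommRing A'] [CommRing B'] [Algebra A A']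
    [Algebra B B'] [Algebra A' B'] [Algebra A B] [Algebra A B'] [IsScalarTower A B B'] [IsScalarTower A A' B']
    (h : Algebra.IsPushout A B A' B') [Algebra.FiniteType A B] : Algebra.FiniteType A' B' := by
  haveI := h
  haveI : Algebra.IsPushout A A' B B' := h.symm
  exact Algebra.FiniteType.equiv inferInstance (Algebra.IsPushout.equiv A A' B B')

omit [q.IsPrime] [q.LiesOver p] [IsNoetherianRing (p.Fiber S)] in
/-- A prime meets a fibre above `t` unless it contains an element outside `t` modulo `t`. -/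
theorem exists_notMem_of_noSpec {A' B' : Type u} [CommRing A'] [CommRing B'] [Algebra A' B'] (t : Ideal A') [t.IsPrime]
    (P : Ideal B') (hno : ∀ (P' : Ideal B') [P'.IsPrime], P ≤ P' → ¬ P'.LiesOver t) :
    ∃ s ∉ t, algebraMap A' B' s ∈ P ⊔ t.map (algebraMap A' B') := by
  by_contra hcon
  push Not at hcon
  have hdis : Disjoint ((P ⊔ t.map (algebraMap A' B') : Ideal B') : Set B')
      (Algebra.algebraMapSubmonoid B' t.primeCompl : Set B') :=
    Set.disjoint_left.mpr fun x hx ⟨s, hs, hsx⟩ => hcon s hs (hsx ▸ hx)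
  obtain ⟨P', hP', hle, hd⟩ := Ideal.exists_le_prime_disjoint _ _ hdis
  refine hno P' (le_sup_left.trans hle) ⟨le_antisymm (fun x hx => ?_) fun x hx => ?_⟩
  · exact hle (le_sup_right (α := Ideal B') (Ideal.mem_map_of_mem _ hx))
  · by_contra h
    exact Set.disjoint_left.mp hd hx ⟨x, h, rfl⟩

end Groth.Agent.PureLib
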